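import Groth.Prelude.Def_FrobAlg
import Mathlib.RingTheory.Finiteness.Basic
import Mathlib.RingTheory.LocalRing.MaximalIdeal.Basic
import Mathlib.RingTheory.Nakayama
import Mathlib.RingTheory.OrzechProperty
import Mathlib.RingTheory.FiniteType
import Mathlib.LinearAlgebra.FreeModule.Basic
import Mathlib.RingTheory.Jacobson.Ideal
import Mathlib.Algebra.Module.FinitePresentation
import Mathlib.LinearAlgebra.StdBasis
import Mathlib.LinearAlgebra.Pi

universe u v

open TensorProduct

namespace FrobFree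

variable (p : ℕ) [Fact p.Prime] {R : Type u} [CommRing R] [IsLocalRing R] [CharP R p]
  {M : Type v} [AddCommGroup M] [Module R M] [Module.FinitePresentation R M]

theorem free_of_bijective
    (e : (FrobAlg.Twist p R ⊗[R] M) →ₛₗ[((FrobAlg.toTwist p R).symm : FrobAlg.Twist p R →+* R)] M)
    (he : Function.Bijective e) : Module.Free R M := by
  classical
  have hp : p.Prime := Fact.out
  have hex : ∃ n, ∃ f : (Fin n → R) →ₗ[R] M, Function.Surjective f := Module.Finite.exists_fin' R M
  obtain ⟨n, hnmin, f, hf⟩ : ∃ n, (∀ m < n, ¬ ∃ f : (Fin m → R) →ₗ[R] M, Function.Surjective f) ∧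
      ∃ f : (Fin n → R) →ₗ[R] M, Function.Surjective f :=
    ⟨Nat.find hex, fun _ h => Nat.find_min hex h, Nat.find_spec hex⟩
  have hmin : ∀ v ∈ LinearMap.ker f, ∀ i, v i ∈ IsLocalRing.maximalIdeal R := by
    intro v hv i
    by_contra hi
    have hu : IsUnit (v i) := by
      rwa [IsLocalRing.mem_maximalIdeal, mem_nonunits_iff, not_not] at hi
    obtain ⟨m, hm⟩ : ∃ m, n = m + 1 := Nat.exists_eq_add_one_of_ne_zero (by have := i.2; omega)
    let c : Fin m → Fin n := fun j => Fin.cast hm.symm ((Fin.cast hm i).succAbove j)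
    let f' : (Fin m → R) →ₗ[R] M := Fintype.linearCombination R fun j => f (Pi.single (c j) 1)
    refine hnmin m (by omega) ⟨f', fun x => ?_⟩
    obtain ⟨w, rfl⟩ := hf x
    let w' := w - (w i * (hu.unit⁻¹ : Rˣ)) • v
    have hw' : w' i = 0 := by
      simp only [w', Pi.sub_apply, Pi.smul_apply, smul_eq_mul, mul_assoc, IsUnit.val_inv_mul,
        mul_one, sub_self]
    have hfw : f w' = f w := by
      simp only [w', map_sub, map_smul, LinearMap.mem_ker.mp hv, smul_zero, sub_zero]
    refine ⟨fun j => w' (c j), ?_⟩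
    rw [← hfw]
    conv_rhs => rw [pi_eq_sum_univ' w', map_sum]
    simp only [f', Fintype.linearCombination_apply, map_smul]
    rw [← (finCongr hm.symm).sum_comp (fun j => w' j • f (Pi.single j 1)),
      Fin.sum_univ_succAbove _ (Fin.cast hm i)]
    simp only [finCongr_apply, Fin.cast_cast, Fin.cast_eq_self, hw', zero_smul, zero_add, c]
  obtain ⟨s, hs⟩ := Module.FinitePresentation.fg_ker f hf
  let 𝔞 : Ideal R := Ideal.span (s.biUnion fun v => Finset.univ.image fun i => v i : Finset R)
  let 𝔟 : Ideal R := 𝔞.map (frobenius R p)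
  have hker : ∀ v ∈ LinearMap.ker f, ∀ i, v i ∈ 𝔞 := by
    intro v hv
    rw [← hs] at hv
    induction hv using Submodule.span_induction with
    | mem y hy =>
      intro i
      exact Ideal.subset_span (Finset.mem_biUnion.mpr ⟨y, hy, Finset.mem_image.mpr ⟨i, Finset.mem_univ _, rfl⟩⟩)
    | zero => intro i; exact zero_mem _
    | add a b _ _ ha hb => intro i; exact add_mem (ha i) (hb i)
    | smul c a _ ha => intro i; exact 𝔞.mul_mem_left c (ha i)
  let q : R →+* R ⧸ 𝔟 := Ideal.Quotient.mk 𝔟
  have hpre : ∀ w w' : Fin n → R, f w = f w' → ∀ i, q (w i ^ p) = q (w' i ^ p) := by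
    intro w w' h i
    have h1 := hker (w - w') (by rw [LinearMap.mem_ker, map_sub, h, sub_self]) i
    rw [← sub_eq_zero, ← map_sub, ← frobenius_def, ← frobenius_def, ← map_sub,
      Ideal.Quotient.eq_zero_iff_mem]
    exact Ideal.mem_map_of_mem _ h1
  let g := Function.surjInv hf
  have hg : ∀ x, f (g x) = x := Function.surjInv_eq hf
  let ψ : M → (Fin n → R ⧸ 𝔟) := fun x i => q (g x i ^ p)
  have hψ : ∀ w, ψ (f w) = fun i => q (w i ^ p) := fun w => funext fun i => hpre _ _ (hg _) i
  have hψadd : ∀ x y, ψ (x + y) = ψ x + ψ y := fun x y => by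
    conv_lhs => rw [← hg x, ← hg y, ← map_add, hψ]
    funext i
    simp only [Pi.add_apply, ← frobenius_def, map_add, ψ]
  have hψsmul : ∀ (r : R) x, ψ (r • x) = q (r ^ p) • ψ x := fun r x => by
    conv_lhs => rw [← hg x, ← map_smul, hψ]
    funext i
    simp only [Pi.smul_apply, smul_eq_mul, mul_pow, map_mul, ψ]
  have hψ0 : ψ 0 = 0 := by simpa using hψadd 0 0
  let untw : FrobAlg.Twist p R →+* R := ((FrobAlg.toTwist p R).symm : FrobAlg.Twist p R →+* R)
  let B : FrobAlg.Twist p R →+ M →+ (Fin n → R ⧸ 𝔟) :=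
    { toFun := fun t =>
        { toFun := fun x => q (untw t) • ψ x
          map_zero' := by rw [hψ0, smul_zero]
          map_add' := fun x y => by rw [hψadd, smul_add] }
      map_zero' := by ext x : 1; simp
      map_add' := fun t t' => by ext x : 1; simp [add_smul] }
  let h : FrobAlg.Twist p R ⊗[R] M →+ (Fin n → R ⧸ 𝔟) := TensorProduct.liftAddHom B fun r t x => by
    show q (untw (r • t)) • ψ x = q (untw t) • ψ (r • x)
    rw [hψsmul, show r • t = algebraMap R _ r * t from Algebra.smul_def r t, smul_smul, map_mul, map_mul, FrobAlg.algebraMap_twist, mul_comm]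
    rfl
  have ht : ∀ t x, h (t ⊗ₜ[R] x) = q (untw t) • ψ x := fun t x => rfl
  have hsmul : ∀ (t : FrobAlg.Twist p R) z, h (t • z) = q (untw t) • h z := by
    intro t z
    induction z using TensorProduct.induction_on with
    | zero => simp
    | tmul a x => rw [TensorProduct.smul_tmul', ht, ht, smul_smul, smul_eq_mul, map_mul, map_mul]
    | add a b ha hb => rw [smul_add, map_add, map_add, smul_add, ha, hb]
  let E := (Equiv.ofBijective e he).symm
  have hE : ∀ x, e (E x) = x := fun x => (Equiv.ofBijective e he).apply_symm_apply x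
  let S : M →ₗ[R] (Fin n → R ⧸ 𝔟) :=
    { toFun := fun x => h (E x)
      map_add' := fun x y => by
        rw [← map_add]; congr 1
        exact he.1 (by rw [hE, map_add, hE, hE])
      map_smul' := fun r x => by
        have h1 : E (r • x) = (FrobAlg.toTwist p R r) • E x :=
          he.1 (by rw [hE, LinearMap.map_smulₛₗ, hE]; rfl)
        rw [h1, hsmul, RingHom.id_apply, ← Ideal.Quotient.mkₐ_eq_mk R]
        ext i
        simp [untw, q, Algebra.smul_def] }
  have hS : Function.Surjective S := by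
    intro c
    have h1 : ∀ i, h ((1 : FrobAlg.Twist p R) ⊗ₜ[R] f (Pi.single i 1)) = Pi.single i 1 := fun i => by
      rw [ht, map_one, map_one, one_smul, hψ]
      funext j
      by_cases hj : j = i
      · subst hj; simp
      · simp [hj, zero_pow hp.ne_zero]
    choose d hd using fun i => Ideal.Quotient.mk_surjective (I := 𝔟) (c i)
    refine ⟨e (∑ i, (FrobAlg.toTwist p R (d i)) • ((1 : FrobAlg.Twist p R) ⊗ₜ[R] f (Pi.single i 1))), ?_⟩
    show h (E (e _)) = c
    rw [show ∀ z, E (e z) = z from fun z => (Equiv.ofBijective e he).symm_apply_apply z, map_sum]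
    simp only [hsmul, h1]
    funext j
    rw [Finset.sum_apply, Finset.sum_eq_single j]
    · simp [untw, q, hd]
    · intro b _ hb; simp [Ne.symm hb]
    · simp
  let T : (Fin n → R ⧸ 𝔟) →ₗ[R ⧸ 𝔟] (Fin n → R ⧸ 𝔟) :=
    Fintype.linearCombination (R ⧸ 𝔟) fun i => S (f (Pi.single i 1))
  have hT : ∀ w : Fin n → R, T (fun i => q (w i)) = S (f w) := by
    intro w
    conv_rhs => rw [pi_eq_sum_univ' w, map_sum, map_sum]
    simp only [T, Fintype.linearCombination_apply, map_smul]
    refine Finset.sum_congr rfl fun i _ => ?_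
    funext j
    simp [q, Algebra.smul_def]
  have hTinj : Function.Injective T := by
    refine OrzechProperty.injective_of_surjective_endomorphism T fun c => ?_
    obtain ⟨x, rfl⟩ := hS c
    obtain ⟨w, rfl⟩ := hf x
    exact ⟨_, hT w⟩
  have hle : 𝔞 ≤ 𝔟 := by
    rw [Ideal.span_le]
    intro a ha
    obtain ⟨v, hv, ha⟩ := Finset.mem_biUnion.mp ha
    obtain ⟨i, -, rfl⟩ := Finset.mem_image.mp ha
    have hvk : v ∈ LinearMap.ker f := hs ▸ Submodule.subset_span hv
    have h0 : (fun i => q (v i)) = (0 : Fin n → R ⧸ 𝔟) := hTinj (by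
      rw [hT, LinearMap.mem_ker.mp hvk, map_zero, map_zero])
    exact Ideal.Quotient.eq_zero_iff_mem.mp (congrFun h0 i)
  have hm : 𝔞 ≤ IsLocalRing.maximalIdeal R := by
    rw [Ideal.span_le]
    intro a ha
    obtain ⟨v, hv, ha⟩ := Finset.mem_biUnion.mp ha
    obtain ⟨i, -, rfl⟩ := Finset.mem_image.mp ha
    exact hmin v (hs ▸ Submodule.subset_span hv) i
  have hb : 𝔟 ≤ IsLocalRing.maximalIdeal R * 𝔞 := by
    refine Ideal.map_le_iff_le_comap.mpr fun a ha => ?_
    rw [Ideal.mem_comap, frobenius_def, ← Nat.sub_add_cancel hp.one_le, pow_succ]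
    refine Ideal.mul_mem_mul (Ideal.pow_mem_of_mem _ (hm ha) _ ?_) ha
    have := hp.two_le
    omega
  have h0 : 𝔞 = ⊥ :=
    Submodule.eq_bot_of_le_smul_of_le_jacobson_bot (IsLocalRing.maximalIdeal R) 𝔞
      ⟨_, rfl⟩ (hle.trans hb) (IsLocalRing.maximalIdeal_le_jacobson ⊥)
  have hinj : Function.Injective f := by
    rw [← LinearMap.ker_eq_bot, eq_bot_iff]
    intro v hv
    rw [Submodule.mem_bot]
    funext i
    have := hker v hv i
    rwa [h0, Ideal.mem_bot] at this
  exact Module.Free.of_equiv (LinearEquiv.ofBijective f ⟨hinj, hf⟩)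

end FrobFree
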